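import Mathlib
import Groth.Prelude.Def_LCI2
import Groth.Agent.Lib.Helper1.RelAmpleCrit2
import Groth.Agent.Lib.Helper1.PullBC
import Groth.Agent.Lib.Helper1.AmpleGlue2
import Groth.Agent.Lib.Helper1.TwistTens
import Groth.Agent.Lib.Helper5.BC.BcM
import Groth.Agent.Lib.Helper5.Stalk.Faithful
import Groth.Agent.Lib.Lead.FBC2
import Groth.Agent.Lib.Lead.PullTensorAll
import Groth.Agent.Lib.Lead.PBQc
import Groth.Agent.Lib.Helper7.LimAmple.Rel
import Groth.Agent.S4597
import Groth.Agent.S4598

set_option linter.style.haveILetI false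
set_option linter.unusedVariables false
set_option linter.unusedSectionVars false
set_option autoImplicit false
set_option backward.isDefEq.respectTransparency.types false
set_option backward.isDefEq.respectTransparency false
set_option synthInstance.maxHeartbeats 400000
set_option maxHeartbeats 1600000

universe u

/-! helper7: fpqc descent of relative ampleness: relative generation descends along flat surjective base change (flat base change mate), ampleness criterion by twisted ideals -/

open CategoryTheory CategoryTheory.Limits AlgebraicGeometry Opposite TopologicalSpace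

namespace Groth.Agent.Helper7.AmpleDesc

open Groth.Agent.Helper1 Groth.Agent.Helper1.TwForm Groth.Agent.Helper1.AmpleLib
  Groth.Agent.Helper1.RelAmpleLib Groth.Agent.Lib.Helper5.BC Groth.Agent.Helper7.LimAmple

section Counit

variable {X S S' X' : Scheme.{u}} {f : X ⟶ S} {g : S' ⟶ S} {g' : X' ⟶ X} {f' : X' ⟶ S'}

/-- relative generation (epimorphic counit) descends along a flat surjective base change. -/
theorem epi_counit_of_epi_counit_pullback (h : IsPullback g' f' f g) [QuasiCompact f]
    [QuasiSeparated f] [Flat g] [Surjective g] (M : X.Modules) [M.IsQuasicoherent]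
    (hepi : Epi ((Scheme.Modules.pullbackPushforwardAdjunction f').counit.app
      ((Scheme.Modules.pullback g').obj M))) :
    Epi ((Scheme.Modules.pullbackPushforwardAdjunction f).counit.app M) := by
  haveI : Flat g' := MorphismProperty.of_isPullback (P := @Flat) h.flip inferInstance
  haveI : Surjective g' := MorphismProperty.of_isPullback (P := @Surjective) h.flip inferInstance
  haveI : (Scheme.Modules.pullback g').Faithful :=
    Groth.Agent.Lib.Helper5.StalkAdj.pullback_faithful g'
  have hiso : IsIso ((bcM h.w).app M) := by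
    rw [bcM_app_eq_bcMap h M]
    exact Groth.Agent.Lead.FBC.isIso_bcMap_flat f g g' f' h M
  have key := homEquiv_symm_mateEquiv_app (Scheme.Modules.pullbackPushforwardAdjunction f)
    (Scheme.Modules.pullbackPushforwardAdjunction f') (betaM h.w).hom M
  rw [Adjunction.homEquiv_counit] at key
  haveI := hepi
  haveI : IsIso ((mateEquiv (Scheme.Modules.pullbackPushforwardAdjunction f)
      (Scheme.Modules.pullbackPushforwardAdjunction f') (betaM h.w).hom).app M) := hiso
  have hepi2 : Epi ((betaM h.w).hom.app ((Scheme.Modules.pushforward f).obj M) ≫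
      (Scheme.Modules.pullback g').map
        ((Scheme.Modules.pullbackPushforwardAdjunction f).counit.app M)) := by
    rw [← key]
    exact epi_comp _ _
  have hepi3 : Epi ((Scheme.Modules.pullback g').map
      ((Scheme.Modules.pullbackPushforwardAdjunction f).counit.app M)) :=
    epi_of_epi ((betaM h.w).hom.app ((Scheme.Modules.pushforward f).obj M)) _
  exact (Scheme.Modules.pullback g').epi_of_epi_map hepi3

end Counit

/-- pullback commutes with twisting by a power of an invertible module. -/
theorem nonempty_pullback_twist_iso {X' X : Scheme.{u}} (p : X' ⟶ X) (J L : X.Modules)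
    (hL : PicF.IsInvertible L) (n : ℕ) :
    Nonempty ((Scheme.Modules.pullback p).obj (CohB1.tensorMod J (CohB1.tensorPow L n)) ≅
      CohB1.tensorMod ((Scheme.Modules.pullback p).obj J)
        (CohB1.tensorPow ((Scheme.Modules.pullback p).obj L) n)) := by
  obtain ⟨e⟩ := Groth.Agent.Lead.PullTensorAll.nonempty_pullback_tensor_iso p J
    (CohB1.tensorPow L n)
  exact ⟨e ≪≫ TwistTens.tensorModCongrRight _ (PullPow.powIso p hL n)⟩

/-- epimorphy of the counit only depends on the isomorphism class of the module. -/
theorem epi_counit_of_iso {X S : Scheme.{u}} (f : X ⟶ S) {A B : X.Modules} (e : A ≅ B)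
    (h : Epi ((Scheme.Modules.pullbackPushforwardAdjunction f).counit.app B)) :
    Epi ((Scheme.Modules.pullbackPushforwardAdjunction f).counit.app A) := by
  have hnat : (Scheme.Modules.pullback f).map ((Scheme.Modules.pushforward f).map e.hom) ≫
      (Scheme.Modules.pullbackPushforwardAdjunction f).counit.app B =
      (Scheme.Modules.pullbackPushforwardAdjunction f).counit.app A ≫ e.hom :=
    (Scheme.Modules.pullbackPushforwardAdjunction f).counit.naturality e.hom
  have h1 : Epi ((Scheme.Modules.pullbackPushforwardAdjunction f).counit.app A ≫ e.hom) := by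
    rw [← hnat]
    exact epi_comp _ _
  have h2 := epi_comp ((Scheme.Modules.pullbackPushforwardAdjunction f).counit.app A ≫ e.hom)
    e.inv
  simpa using h2

section Core

variable {X S S' X' : Scheme.{u}} {f : X ⟶ S} {g : S' ⟶ S} {g' : X' ⟶ X} {f' : X' ⟶ S'}

/-- descent of relative ampleness along a quasi-compact flat surjective base change, for a
quasi-compact quasi-separated source. -/
theorem isRelAmple_of_pullback_of_compact (h : IsPullback g' f' f g) [CompactSpace X]
    [QuasiSeparatedSpace X] [QuasiCompact f] [QuasiSeparated f] [QuasiCompact g] [Flat g]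
    [Surjective g] (L : X.Modules) (hL : PicF.IsInvertible L)
    (hL' : RelAmple.IsRelAmple f' ((Scheme.Modules.pullback g').obj L)) :
    RelAmple.IsRelAmple f L := by
  haveI : QuasiCompact g' :=
    MorphismProperty.of_isPullback (P := @QuasiCompact) h.flip inferInstance
  haveI : CompactSpace X' := QuasiCompact.compactSpace_of_compactSpace g'
  have hloc := locFrame_of_isInvertible hL hL
  refine ⟨inferInstance, fun V => ?_⟩
  refine isAmple_restrict_of_counit f L hL V.1 V.2 (f.isCompact_preimage V.2.isCompact) ?_
  intro J i hmono hqc hft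
  haveI := hqc
  have hF : Coh.IsCoh ((Scheme.Modules.pullback g').obj J) :=
    ⟨Groth.Agent.Lead.PB.isQuasicoherent_pullback g' J,
      Groth.Agent.Lead.PB.isFT_pullback g' J hft⟩
  obtain ⟨n, hn, hepi⟩ := eventually_epi_counit f' _ hL' _ hF
  refine ⟨n, hn, ?_⟩
  haveI hqcM : (CohB1.tensorMod J (CohB1.tensorPow L n)).IsQuasicoherent :=
    ((Tw.self L L J).tensorR ((Tw.fst L L).pow n)).isQuasicoherent hloc
  obtain ⟨e⟩ := nonempty_pullback_twist_iso g' J L hL n
  apply epi_counit_of_epi_counit_pullback h
  exact epi_counit_of_iso f' e (hepi n le_rfl)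

end Core

section General

variable {X S S' : Scheme.{u}}

/-- **fpqc descent of relative ampleness** along a single quasi-compact flat surjective base
change. -/
theorem isRelAmple_of_pullback (f : X ⟶ S) (L : X.Modules) (hL : PicF.IsInvertible L)
    (g : S' ⟶ S) [QuasiCompact g] [Flat g] [Surjective g]
    (hL' : RelAmple.IsRelAmple (pullback.snd f g)
      ((Scheme.Modules.pullback (pullback.fst f g)).obj L)) :
    RelAmple.IsRelAmple f L := by
  set g' := pullback.fst f g with hg'
  set f' := pullback.snd f g with hf'
  have h : IsPullback g' f' f g := IsPullback.of_hasPullback f g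
  haveI : QuasiCompact f' := hL'.1
  haveI : QuasiSeparated f' := by
    rw [HasAffineProperty.eq_targetAffineLocally (P := @QuasiSeparated)]
    intro U
    have := quasiSeparatedSpace_of_isAmple (hL'.2 U)
    exact this
  haveI : QuasiCompact f := (Groth.Agent.S4597.result f g).1 inferInstance inferInstance
  haveI : QuasiSeparated f := Groth.Agent.S4598.result f g
  refine ⟨inferInstance, fun V => ?_⟩
  haveI : IsAffine (↑V.1 : Scheme.{u}) := V.2
  set U : X.Opens := f ⁻¹ᵁ V.1 with hU
  set T : S'.Opens := g ⁻¹ᵁ V.1 with hT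
  set W : (pullback f g).Opens := f' ⁻¹ᵁ T with hW
  haveI : CompactSpace (↑U : Scheme.{u}) :=
    isCompact_iff_compactSpace.mp (f.isCompact_preimage V.2.isCompact)
  haveI : QuasiSeparatedSpace (↑U : Scheme.{u}) :=
    quasiSeparatedSpace_of_quasiSeparated (f ∣_ V.1)
  have hrange : Set.range (W.ι ≫ g') ⊆ Set.range U.ι := by
    rintro _ ⟨w, rfl⟩
    rw [Scheme.Opens.range_ι]
    have e : ∀ x : ↥(pullback f g), f (g' x) = g (f' x) := fun x => by
      rw [← Scheme.Hom.comp_apply, h.w, Scheme.Hom.comp_apply]
    show f ((W.ι ≫ g') w) ∈ V.1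
    rw [Scheme.Hom.comp_apply, e]
    exact w.2
  let g'V : (↑W : Scheme.{u}) ⟶ ↑U := IsOpenImmersion.lift U.ι (W.ι ≫ g') hrange
  have hg'V : g'V ≫ U.ι = W.ι ≫ g' := IsOpenImmersion.lift_fac _ _ _
  have hp : g'V ≫ (f ∣_ V.1) = (f' ∣_ T) ≫ (g ∣_ V.1) := by
    rw [← cancel_mono V.1.ι]
    simp only [Category.assoc]
    rw [morphismRestrict_ι, morphismRestrict_ι, reassoc_of% hg'V,
      morphismRestrict_ι_assoc, h.w]
  -- the restricted square
  have sqC := isPullback_morphismRestrict g V.1
  have sqD := isPullback_morphismRestrict f V.1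
  have sqE := isPullback_morphismRestrict f' T
  have sqEC := sqE.paste_horiz sqC
  have sqA : IsPullback g'V W.ι U.ι g' := by
    refine IsPullback.of_right (h₁₂ := f ∣_ V.1) (h₂₂ := f) (v₁₃ := V.1.ι) ?_ hg'V sqD
    rw [hp, h.w]
    exact sqEC
  have sqV : IsPullback g'V (f' ∣_ T) (f ∣_ V.1) (g ∣_ V.1) := by
    refine IsPullback.of_bot (v₂₁ := T.ι) (v₂₂ := V.1.ι) (h₃₁ := g) ?_ hp sqC
    rw [morphismRestrict_ι, morphismRestrict_ι]
    exact sqA.paste_vert h
  -- the hypothesis over the restricted square
  have hLU := isInvertible_restrict U.ι hL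
  have h1 : RelAmple.IsRelAmple (f' ∣_ T)
      (((Scheme.Modules.pullback g').obj L).restrict W.ι) := by
    refine ⟨inferInstance, fun V' => ?_⟩
    rw [isAmple_restrict_restrict_ι_iff, image_morphismRestrict_preimage]
    exact hL'.2 ⟨T.ι ''ᵁ V'.1, V'.2.image_of_isOpenImmersion _⟩
  have h2 : RelAmple.IsRelAmple (f' ∣_ T)
      ((Scheme.Modules.pullback g'V).obj (L.restrict U.ι)) :=
    isRelAmple_of_iso _ (PullAmple.restrictPullbackIso' g' g'V hg'V L) h1
  haveI : Flat (g ∣_ V.1) := IsZariskiLocalAtTarget.restrict (P := @Flat) inferInstance V.1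
  haveI : Surjective (g ∣_ V.1) :=
    IsZariskiLocalAtTarget.restrict (P := @Surjective) inferInstance V.1
  have h3 := isRelAmple_of_pullback_of_compact sqV (L.restrict U.ι) hLU h2
  have h4 := h3.2 ⟨⊤, isAffineOpen_top _⟩
  exact isAmple_of_restrict_top hLU _ rfl h4

/-- descent of ampleness along a flat surjective morphism of affine bases. -/
theorem isAmple_of_pullback_affine {X Y Y' : Scheme.{u}} [IsAffine Y] [IsAffine Y']
    (f : X ⟶ Y) (g : Y' ⟶ Y) [QuasiCompact f] [Flat g] [Surjective g] (L : X.Modules)
    (hL : PicF.IsInvertible L)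
    (h : CohB1.IsAmple ((Scheme.Modules.pullback (pullback.fst f g)).obj L)) :
    CohB1.IsAmple L := by
  haveI : QuasiCompact (pullback.snd f g) := inferInstance
  have hrel' : RelAmple.IsRelAmple (pullback.snd f g)
      ((Scheme.Modules.pullback (pullback.fst f g)).obj L) :=
    ⟨inferInstance, fun V => isAmple_restrict_of_isCompact h _
      ((pullback.snd f g).isCompact_preimage V.2.isCompact)⟩
  have hrel := isRelAmple_of_pullback f L hL g hrel'
  have h4 := hrel.2 ⟨⊤, isAffineOpen_top _⟩
  exact isAmple_of_restrict_top hL _ rfl h4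

end General

end Groth.Agent.Helper7.AmpleDesc
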